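import Cfsg.Agent.H52.Comm
import Cfsg.Agent.H52.DataE6

/-!
Matrices of degree 78 over the field with four elements packed into one natural number, two planes
of bits per row, and left multiplication by root elements of `E₆`.
-/

set_option autoImplicit false
set_option maxRecDepth 100000

namespace H60.TE6

open Cfsg.Lie H52

/-- Product in the field with four elements, codes 0, 1, 2 = ω, 3 = ω + 1. -/
def mulc (a b : ℕ) : ℕ :=
  ([0, 0, 0, 0, 0, 1, 2, 3, 0, 2, 3, 1, 0, 3, 1, 2] : List ℕ).getD (4 * a + b) 0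

/-- Power in the field with four elements. -/
def pwc (c : ℕ) : ℕ → ℕ
  | 0 => 1
  | n + 1 => mulc c (pwc c n)

/-- The two planes of a row. -/
def rowOf (Y j : ℕ) : ℕ := (Y >>> (156 * j)) % 2 ^ 156

/-- The code at a place of a row. -/
def rent (R k : ℕ) : ℕ :=
  (bif R.testBit k then 1 else 0) + (bif R.testBit (78 + k) then 2 else 0)

/-- The code at a place of a matrix. -/
def ent (Y i j : ℕ) : ℕ := rent (rowOf Y i) j

/-- A row times a scalar. -/
def scale (c R : ℕ) : ℕ :=
  match c with
  | 1 => R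
  | 2 => (R >>> 78) ^^^ ((((R % 2 ^ 78) ^^^ (R >>> 78))) <<< 78)
  | 3 => ((R % 2 ^ 78) ^^^ (R >>> 78)) ^^^ ((R % 2 ^ 78) <<< 78)
  | _ => 0

/-- Entries `(i, j, k)`: add `t ^ k` times row `j` to row `i`. -/
def delta (t Y : ℕ) : List (ℕ × ℕ × ℕ) → ℕ
  | [] => 0
  | (i, j, k) :: L => (scale (pwc t k) (rowOf Y j) <<< (156 * i)) ^^^ delta t Y L

/-- Left multiplication by a root element. -/
def step (tab : List (ℕ × ℕ × ℕ)) (t Y : ℕ) : ℕ := Y ^^^ delta t Y tab

/-- The identity matrix. -/
def idY : ℕ := ((List.range 78).map fun i => (1 <<< i) <<< (156 * i)).foldr (· ^^^ ·) 0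

/-- The off-diagonal entries of `x_r(t)` in characteristic two, computed from the datum. -/
def entries (r : ℕ) : List (ℕ × ℕ × ℕ) :=
  (List.range 78).flatMap fun v =>
    ((colT chevE6 r 1 0 1 v).tail.filter fun p => p.2.2.2 % 2 != 0).map fun p => (p.1, v, p.2.1)

section Bits

theorem rowOf_bit (Y j k : ℕ) (hk : k < 156) :
    (rowOf Y j).testBit k = Y.testBit (156 * j + k) := by
  rw [rowOf, Nat.testBit_mod_two_pow, Nat.testBit_shiftRight]
  simp [hk]

theorem rowOf_lt (Y j : ℕ) : rowOf Y j < 2 ^ 156 := Nat.mod_lt _ (Nat.two_pow_pos _)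

theorem high_bit {R k : ℕ} (hR : R < 2 ^ 156) (hk : 156 ≤ k) : R.testBit k = false :=
  Nat.testBit_lt_two_pow (lt_of_lt_of_le hR (Nat.pow_le_pow_right (by norm_num) hk))

theorem rowOf_xor (a b j : ℕ) : rowOf (a ^^^ b) j = rowOf a j ^^^ rowOf b j := by
  apply Nat.eq_of_testBit_eq
  intro k
  by_cases hk : k < 156
  · simp only [Nat.testBit_xor, rowOf_bit _ _ _ hk]
  · rw [Nat.testBit_xor, high_bit (rowOf_lt _ _) (by omega), high_bit (rowOf_lt a j) (by omega),
      high_bit (rowOf_lt b j) (by omega)]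
    rfl

theorem scale_lt (c : ℕ) {R : ℕ} (hR : R < 2 ^ 156) : scale c R < 2 ^ 156 := by
  apply Nat.lt_pow_two_of_testBit
  intro i hi
  unfold scale
  split <;>
    simp [-Nat.reducePow, Nat.testBit_xor, Nat.testBit_shiftLeft, Nat.testBit_shiftRight,
      Nat.testBit_mod_two_pow, high_bit hR hi, high_bit hR (show 156 ≤ 78 + i by omega),
      high_bit hR (show 156 ≤ 78 + (i - 78) by omega), show ¬ i < 78 by omega,
      show ¬ i - 78 < 78 by omega]

theorem rowOf_shl {R : ℕ} (hR : R < 2 ^ 156) (i j : ℕ) :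
    rowOf (R <<< (156 * i)) j = if i = j then R else 0 := by
  apply Nat.eq_of_testBit_eq
  intro k
  by_cases hk : k < 156
  · rw [rowOf_bit _ _ _ hk, Nat.testBit_shiftLeft]
    rcases lt_trichotomy i j with h | h | h
    · rw [if_neg (by omega), high_bit hR (k := 156 * j + k - 156 * i) (by omega)]
      simp
    · subst h; simp
    · rw [if_neg (by omega)]
      simp [show ¬ (156 * j + k ≥ 156 * i) by omega]
  · rw [high_bit (rowOf_lt _ _) (by omega)]
    split
    · rw [high_bit hR (by omega)]
    · simp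

end Bits

section Field

variable {K : Type*} [Field K] [CharP K 2]

/-- A bit in the field. -/
def b2k (K : Type*) [Field K] (b : Bool) : K := bif b then 1 else 0

/-- The value of a code. -/
def val (w : K) (c : ℕ) : K := b2k K (c.testBit 0) + b2k K (c.testBit 1) * w

/-- The value at a place of a row. -/
def rv (w : K) (R k : ℕ) : K := b2k K (R.testBit k) + b2k K (R.testBit (78 + k)) * w

theorem b2k_xor (a b : Bool) : b2k K (a ^^ b) = b2k K a + b2k K b := by
  cases a <;> cases b <;> simp [b2k, CharTwo.add_self_eq_zero]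

omit [CharP K 2] in
theorem val_rent (w : K) (R k : ℕ) : val w (rent R k) = rv w R k := by
  unfold val rent rv
  cases R.testBit k <;> cases R.testBit (78 + k) <;> simp [b2k, Nat.testBit]

theorem rv_xor (w : K) (R S k : ℕ) : rv w (R ^^^ S) k = rv w R k + rv w S k := by
  simp only [rv, Nat.testBit_xor, b2k_xor]
  ring

omit [CharP K 2] in
theorem rv_zero (w : K) (k : ℕ) : rv w 0 k = 0 := by simp [rv, b2k]

omit [CharP K 2] in
theorem val_vals (w : K) : val w 0 = 0 ∧ val w 1 = 1 ∧ val w 2 = w ∧ val w 3 = 1 + w := by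
  simp [val, b2k, Nat.testBit]

variable {w : K} (hw : w * w = w + 1)
include hw

theorem rv_scale {c : ℕ} (hc : c < 4) {R : ℕ} (hR : R < 2 ^ 156) {k : ℕ} (hk : k < 78) :
    rv w (scale c R) k = val w c * rv w R k := by
  have h2 : (2 : K) = 0 := CharTwo.two_eq_zero
  obtain ⟨v0, v1, v2, v3⟩ := val_vals w
  interval_cases c
  · rw [v0]; simp [scale, rv_zero]
  · rw [v1]; simp [scale]
  · rw [v2]
    simp [-Nat.reducePow, scale, rv, high_bit hR (show 156 ≤ 78 + (78 + k) by omega),
      high_bit hR (show 156 ≤ 78 + 78 + k by omega), Nat.testBit_xor, Nat.testBit_shiftLeft, Nat.testBit_shiftRight,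
      Nat.testBit_mod_two_pow, b2k_xor, hk, show ¬ k ≥ 78 by omega, show b2k K false = 0 from rfl]
    grind
  · rw [v3]
    simp [-Nat.reducePow, scale, rv, high_bit hR (show 156 ≤ 78 + (78 + k) by omega),
      high_bit hR (show 156 ≤ 78 + 78 + k by omega), Nat.testBit_xor, Nat.testBit_shiftLeft, Nat.testBit_shiftRight,
      Nat.testBit_mod_two_pow, b2k_xor, hk, show ¬ k ≥ 78 by omega, show b2k K false = 0 from rfl]
    grind

omit [CharP K 2] in
theorem val_mulc_table [CharP K 2] : ∀ a < 4, ∀ b < 4,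
    mulc a b < 4 ∧ val w (mulc a b) = val w a * val w b := by
  have h2 : (2 : K) = 0 := CharTwo.two_eq_zero
  obtain ⟨v0, v1, v2, v3⟩ := val_vals w
  intro a ha b hb
  refine ⟨?_, ?_⟩
  · revert a b; decide
  interval_cases a <;> interval_cases b <;>
    simp only [mulc, List.getD_cons_zero, List.getD_cons_succ, Nat.reduceMul, Nat.reduceAdd,
      zero_mul, mul_zero, one_mul, mul_one, v0, v1, v2, v3] <;> grind

theorem val_pwc {c : ℕ} (hc : c < 4) : ∀ n, pwc c n < 4 ∧ val w (pwc c n) = val w c ^ n
  | 0 => ⟨(by decide : 1 < 4), by rw [pwc, (val_vals w).2.1, pow_zero]⟩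
  | n + 1 => by
    obtain ⟨h1, h2⟩ := val_pwc hc n
    obtain ⟨h3, h4⟩ := val_mulc_table hw c hc _ h1
    exact ⟨h3, by rw [pwc, h4, h2, pow_succ']⟩

omit hw in
/-- The matrix of a packed number. -/
def toK (w : K) (Y : ℕ) : Matrix chevE6.Idx chevE6.Idx K :=
  Matrix.of fun x y => rv w (rowOf Y (code chevE6 x)) (code chevE6 y)

theorem delta_rv {t : ℕ} (ht : t < 4) (Y : ℕ) {i k : ℕ} (hk : k < 78) :
    ∀ L : List (ℕ × ℕ × ℕ), rv w (rowOf (delta t Y L) i) k =
      (L.map fun e => if e.1 = i then val w t ^ e.2.2 * rv w (rowOf Y e.2.1) k else 0).sum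
  | [] => by simp [delta, rowOf, rv_zero]
  | (a, b, e) :: L => by
    rw [delta, rowOf_xor, rv_xor, delta_rv ht Y hk L, rowOf_shl (scale_lt _ (rowOf_lt _ _)),
      List.map_cons, List.sum_cons]
    obtain ⟨h1, h2⟩ := val_pwc hw ht e
    by_cases h : a = i
    · rw [if_pos h, if_pos h, rv_scale hw h1 (rowOf_lt _ _) hk, h2]
    · rw [if_neg h, if_neg h, rv_zero]

/-- The terms of a column give the entries. -/
theorem col_entries {r : ℕ} (t : K) (v : ℕ) (x : chevE6.Idx) (G : ℕ → K) :
    ∀ L : List Term, (∀ p ∈ L, p.2.2.1 = 0) → ev chevE6 t 0 L x * G v =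
      (((L.filter fun p => p.2.2.2 % 2 != 0).map fun p => (p.1, v, p.2.1)).map fun e =>
        if e.1 = code chevE6 x then t ^ e.2.2 * G e.2.1 else 0).sum
  | [], _ => by simp [ev]
  | (a, i, j, c) :: L, h => by
    obtain rfl : j = 0 := h _ List.mem_cons_self
    rw [ev, Pi.add_apply, add_mul, col_entries (r := r) t v x G L fun p hp =>
      h p (List.mem_cons_of_mem _ hp)]
    simp only [Pi.smul_apply, basisVec_eq, smul_eq_mul, pow_zero, mul_one]
    have hc : (c : K) = if c % 2 = 0 then 0 else 1 := by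
      have e : (c : K) = ((c % 2 : ℤ) : K) := by
        conv_lhs => rw [← Int.emod_add_mul_ediv c 2, Int.cast_add, Int.cast_mul, Int.cast_ofNat,
          show (2 : K) = 0 from CharTwo.two_eq_zero, zero_mul, add_zero]
      rw [e]
      rcases Int.emod_two_eq_zero_or_one c with h | h <;> simp [h]
    by_cases hc2 : c % 2 = 0
    · simp [hc, hc2, List.filter_cons]
    · by_cases ha : a = code chevE6 x
      · simp [hc, hc2, List.filter_cons, ha]
      · simp [hc, hc2, List.filter_cons, ha, Ne.symm ha]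

/-- Left multiplication by a root element. -/
theorem step_toK {r : ℕ} (hr : r < 72) (tab : List (ℕ × ℕ × ℕ)) (htab : tab = entries r)
    (hhead : ∀ v < 78, (colT chevE6 r 1 0 1 v).head? = some (v, 0, 0, 1) ∧
      ∀ p ∈ colT chevE6 r 1 0 1 v, p.2.2.1 = 0)
    {t : ℕ} (ht : t < 4) (Y : ℕ) :
    toK w (step tab t Y) = chevE6.x K r (val w t) * toK w Y := by
  ext x y
  have hk : code chevE6 y < 78 := code_lt y
  set G : ℕ → K := fun v => rv w (rowOf Y v) (code chevE6 y) with hG
  have key : ∀ z : chevE6.Idx, chevE6.x K r (val w t) x z * toK w Y z y =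
      (if code chevE6 z = code chevE6 x then G (code chevE6 z) else 0) +
      ((((colT chevE6 r 1 0 1 (code chevE6 z)).tail.filter fun p => p.2.2.2 % 2 != 0).map
        fun p => (p.1, code chevE6 z, p.2.1)).map fun e =>
        if e.1 = code chevE6 x then val w t ^ e.2.2 * G e.2.1 else 0).sum := by
    intro z
    obtain ⟨hh, hj⟩ := hhead _ (code_lt z)
    have hcol : chevE6.x K r (val w t) x z =
        ev chevE6 (val w t) 0 (colT chevE6 r 1 0 1 (code chevE6 z)) x := by
      rw [← Checked.x_mulVec checkedE6 hr, bv, basisVec_code, Matrix.mulVec_single_one,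
        Matrix.col_apply]
    rw [hcol, ← List.cons_head?_tail hh]
    show (ev chevE6 _ 0 _ x) * G (code chevE6 z) = _
    rw [ev, Pi.add_apply, add_mul, col_entries hw (r := r) _ _ _ _ _ fun p hp =>
      hj p (List.mem_of_mem_tail hp)]
    congr 1
    simp only [Pi.smul_apply, basisVec_eq, smul_eq_mul, pow_zero, mul_one, Int.cast_one, one_mul]
    by_cases h : code chevE6 z = code chevE6 x
    · rw [if_pos h, if_pos h.symm, one_mul]
    · rw [if_neg h, if_neg (Ne.symm h), zero_mul]
  rw [Matrix.mul_apply, Finset.sum_congr rfl fun z _ => key z, Finset.sum_add_distrib,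
    Finset.sum_eq_single x (fun z _ hz => if_neg fun e => hz (code_injective e))
      (fun h => absurd (Finset.mem_univ x) h), if_pos rfl]
  show rv w (rowOf (step tab t Y) (code chevE6 x)) (code chevE6 y) = _
  rw [step, rowOf_xor, rv_xor, delta_rv hw ht Y hk]
  congr 1
  subst htab
  rw [entries, List.map_flatMap, List.flatMap, List.sum_flatten, List.map_map]
  let f : ℕ → K := fun v => ((((colT chevE6 r 1 0 1 v).tail.filter fun p => p.2.2.2 % 2 != 0).map
        fun p => (p.1, v, p.2.1)).map fun e =>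
        if e.1 = code chevE6 x then val w t ^ e.2.2 * G e.2.1 else 0).sum
  show ((List.range 78).map f).sum = ∑ z : chevE6.Idx, f (code chevE6 z)
  rw [← List.sum_toFinset _ List.nodup_range, List.toFinset_range]
  have himg : (Finset.univ : Finset chevE6.Idx).image (code chevE6) = Finset.range 78 := by
    apply Finset.eq_of_subset_of_card_le
    · intro a ha
      obtain ⟨z, -, rfl⟩ := Finset.mem_image.1 ha
      exact Finset.mem_range.2 (code_lt z)
    · rw [Finset.card_image_of_injective _ code_injective, Finset.card_range, Finset.card_univ,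
        Fintype.card_sum, Fintype.card_fin, Fintype.card_fin]
      rfl
  rw [← himg, Finset.sum_image fun a _ b _ h => code_injective h]

omit hw in
theorem idY_rows : ∀ i < 78, rowOf idY i = 2 ^ i := by decide +kernel

omit hw [CharP K 2] in
theorem toK_idY : toK w idY = 1 := by
  ext x y
  have hx : code chevE6 x < 78 := code_lt x
  have hy : code chevE6 y < 78 := code_lt y
  show rv w (rowOf idY (code chevE6 x)) (code chevE6 y) = _
  rw [idY_rows _ hx, rv, Nat.testBit_two_pow, Nat.testBit_two_pow]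
  simp only [show ¬ code chevE6 x = 78 + code chevE6 y by omega, decide_false, Matrix.one_apply]
  by_cases h : x = y
  · subst h; simp [b2k]
  · simp [b2k, h, show code chevE6 x ≠ code chevE6 y from fun e => h (code_injective e)]

end Field

end H60.TE6
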