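import Cfsg.Agent.H60.TE6.Basic
import Cfsg.Agent.H60.TE6.Data

/-!
The relations of Fi₂₂ and the certificate of irreducibility, for the nine root elements of ²E₆(2).
-/

set_option autoImplicit false
set_option maxRecDepth 100000

namespace H60.TE6

open Cfsg.Lie H52

/-- The root of a position. -/
def rootAt (i : ℕ) : ℕ := roots.getD i 0

/-- The table of a position. -/
def tabAt (i : ℕ) : List (ℕ × ℕ × ℕ) := tabs.getD i []

/-- The root elements of a generator. -/
def glets (g : ℕ) : List (ℕ × ℕ) :=
  let w := gwords.getD g []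
  (w ++ 0 :: w.reverse).flatMap fun l => letters.getD l []

/-- A word in root elements applied to a matrix. -/
def evL (w : List (ℕ × ℕ)) (Y : ℕ) : ℕ := w.foldr (fun p Z => step (tabAt p.1) p.2 Z) Y

/-- A word in generators applied to a matrix. -/
def evG (w : List ℕ) (Y : ℕ) : ℕ := w.foldr (fun g Z => evL (glets g) Z) Y

/-- A generator minus one applied to a matrix. -/
def evD (g Y : ℕ) : ℕ := evL (glets g) Y ^^^ Y

/-- The adjacent pairs of the diagram. -/
def adj : List (ℕ × ℕ) := [(0, 1), (1, 2), (2, 3), (3, 4), (3, 7), (4, 5), (5, 6), (7, 8)]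

/-- The label of a pair. -/
def lbl (a b : ℕ) : ℕ :=
  if a = b then 1 else if adj.elem (a, b) || adj.elem (b, a) then 3 else 2

/-- A word repeated. -/
def wrep (w : List ℕ) : ℕ → List ℕ
  | 0 => []
  | n + 1 => w ++ wrep w n

/-- A list of successive powers of a word. -/
def chainOK (w : List ℕ) (n : ℕ) (l : List ℕ) : Bool :=
  Nat.beq (l.getD 0 0) idY && Nat.beq (l.getD n 0) idY &&
    (List.range n).all fun k => Nat.beq (evG w (l.getD k 0)) (l.getD (k + 1) 0)

/-- The product of rank one. -/
def rankE : ℕ := evD 2 (evD 7 (evD 4 (evD 6 idY)))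

theorem roots_lt : ∀ i < 12, rootAt i < 72 := by decide +kernel

theorem tabs_ok : ∀ i < 12, tabAt i = entries (rootAt i) := by decide +kernel

/-- The shape of the columns of a root element. -/
def headsB (r : ℕ) : Bool :=
  (List.range 78).all fun v =>
    ((colT chevE6 r 1 0 1 v).head? == some (v, 0, 0, 1)) &&
      (colT chevE6 r 1 0 1 v).all fun p => p.2.2.1 == 0

theorem headsB_ok : ((List.range 12).all fun i => headsB (rootAt i)) = true := by decide +kernel

theorem heads_ok {i : ℕ} (hi : i < 12) : ∀ v < 78,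
    (colT chevE6 (rootAt i) 1 0 1 v).head? = some (v, 0, 0, 1) ∧
      ∀ p ∈ colT chevE6 (rootAt i) 1 0 1 v, p.2.2.1 = 0 := by
  intro v hv
  have h := List.all_eq_true.1 (List.all_eq_true.1 headsB_ok i (List.mem_range.2 hi)) v
    (List.mem_range.2 hv)
  simp only [Bool.and_eq_true, List.all_eq_true, beq_iff_eq] at h
  exact h

theorem glets_lt : ∀ g < 9, ∀ p ∈ glets g, p.1 < 12 ∧ p.2 < 4 := by decide +kernel

theorem cox_ok : ((List.range 9).all fun a => (List.range 9).all fun b =>
    Nat.beq (evG (wrep [a, b] (lbl a b)) idY) idY) = true := by decide +kernel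

theorem spider_ok : chainOK [3, 2, 1, 3, 4, 5, 3, 7, 8] 10 spiderPows = true := by decide +kernel

theorem e7a_ok : chainOK [0, 1, 2, 3, 4, 5, 7] 9 e7aPows = true := by decide +kernel

theorem e7b_ok : chainOK [1, 2, 3, 4, 5, 6, 7] 9 e7bPows = true := by decide +kernel

theorem uv_ok : ((List.range 78).all fun i => (List.range 78).all fun k =>
    Nat.beq (ent rankE i k) (mulc (uvec.getD i 0) (vvec.getD k 0))) = true := by decide +kernel

theorem uv_lt : (∀ i < 78, uvec.getD i 0 < 4 ∧ vvec.getD i 0 < 4) ∧ vvec.getD 74 0 = 1 := by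
  decide +kernel

theorem start_ok : ∀ i < 78, ent (vcols.getD 0 0) i 0 = uvec.getD i 0 := by decide +kernel

theorem tree_lt : ∀ k < 78, (k = 0 ∨ (tree.getD k (0, 0)).1 < k) ∧
    (k = 0 ∨ (1 ≤ (tree.getD k (0, 0)).2 ∧ (tree.getD k (0, 0)).2 < 9)) := by decide +kernel

theorem tree_ok : ((List.range 78).all fun k => k == 0 ||
    Nat.beq (evL (glets (tree.getD k (0, 0)).2) (vcols.getD (tree.getD k (0, 0)).1 0))
      (vcols.getD k 0)) = true := by decide +kernel

theorem cols_rows : ((List.range 78).all fun k => (List.range 78).all fun i =>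
    Nat.beq (ent (vcols.getD k 0) i 0) (rent (vrows.getD k 0) i)) = true := by decide +kernel

theorem rows_lt : ∀ k < 78, vrows.getD k 0 < 2 ^ 156 := by decide +kernel

theorem coords_lt : ∀ p < 78, ∀ k < 78, (coords.getD p []).getD k 0 < 4 := by decide +kernel

theorem coords_ok : ((List.range 78).all fun p =>
    Nat.beq (((List.range 78).map fun k =>
      scale ((coords.getD p []).getD k 0) (vrows.getD k 0)).foldr (· ^^^ ·) 0) (1 <<< p)) = true := by
  decide +kernel

theorem gen_ne : ∃ i < 78, ∃ j < 78, i ≠ j ∧ ent (evG [0] idY) i j ≠ 0 := by decide +kernel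

end H60.TE6
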