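import Cfsg.Agent.H13.EA.TwFixed
import Cfsg.Agent.H13.EA.TwInst

/-!
Three classes of an absolutely irreducible subgroup of ²E₆(2) under the diagonal automorphisms.
-/

set_option autoImplicit false
set_option linter.unusedSectionVars false

open Cfsg.Lie

namespace H60.TE6

open H13.EA

section Abstract

variable {D D' : ChevalleyDatum} {Fl : H52.Fold D D'} {T : H52.Tables} {K : Type*} [Field K]
  {X : H52.Twist Fl T K}

/-- The automorphisms induced by conjugation in the general linear group. -/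
noncomputable def linAut (X : H52.Twist Fl T K) : Subgroup (MulAut ↥X.grp) where
  carrier := {θ | ∃ x : GL D.Idx K, ∀ g, (θ g : GL D.Idx K) = x * (g : GL D.Idx K) * x⁻¹}
  one_mem' := ⟨1, fun g => by simp⟩
  mul_mem' := by
    rintro θ φ ⟨x, hx⟩ ⟨y, hy⟩
    exact ⟨x * y, fun g => by rw [MulAut.mul_apply, hx, hy]; group⟩
  inv_mem' := by
    rintro θ ⟨x, hx⟩
    refine ⟨x⁻¹, fun g => ?_⟩
    have h := hx (θ⁻¹ g)
    rw [MulAut.apply_inv_self] at h
    rw [h]; group

theorem conj_mem_linAut (g : ↥X.grp) : MulAut.conj g ∈ linAut X :=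
  ⟨g, fun h => by simp⟩

variable {q : ℕ} {J₀ : Fin D'.rank} [Finite K] (hF : TwFacts X q J₀)

theorem twAut_mem_linAut (c : ∀ J, (dom X J)ˣ) : twAut hF c 1 ∈ linAut X := by
  refine ⟨H52.dgR D (chiOf (ctxBig X) (ccOf c)), fun g => ?_⟩
  show twHom c 1 (g : GL D.Idx K) = _
  have h1 : H54.glF D (RingEquiv.toRingHom (1 : K ≃+* K)) (g : GL D.Idx K) = g := by
    apply Units.ext
    ext i j
    rfl
  show MulAut.conj _ (H54.glF D _ _) = _
  rw [h1, MulAut.conj_apply]

include hF

/-- Images of an absolutely irreducible subgroup under powers of a diagonal automorphism. -/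
theorem no_conj {S : Type*} [Group S] [Finite S] (ι : S →* ↥X.grp) (hinj : Function.Injective ι)
    (hirr : ∀ x : GL D.Idx K, (∀ s, x * (ι s : GL D.Idx K) = (ι s : GL D.Idx K) * x) →
      x ∈ Subgroup.center (GL D.Idx K))
    (c d : ∀ J, (dom X J)ˣ)
    (hne : ((diagOut hF d)⁻¹ * diagOut hF c) ^ Nat.card (Cfsg.Out S) ≠ 1) (g : ↥X.grp) :
    (ι.range.map (twAut hF c 1).toMonoidHom).map (MulAut.conj g).toMonoidHom ≠
      ι.range.map (twAut hF d 1).toMonoidHom := by
  intro he
  set θ := (twAut hF d 1)⁻¹ * MulAut.conj g * twAut hF c 1 with hθ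
  set L := linAut X
  have hθL : θ ∈ L := mul_mem (mul_mem (inv_mem (twAut_mem_linAut hF d)) (conj_mem_linAut g))
    (twAut_mem_linAut hF c)
  have hmap : ι.range.map θ.toMonoidHom = ι.range := by
    rw [hθ, ← map_mul_aut, ← map_mul_aut, he, map_mul_aut, inv_mul_cancel]
    ext x; simp
  let e : S ≃* ↥ι.range := MonoidHom.ofInjective hinj
  let α : MulAut S := e.trans ((θ.subgroupMap ι.range).trans
    ((MulEquiv.subgroupCongr hmap).trans e.symm))
  have hα : ∀ s, ι (α s) = θ (ι s) := fun s => by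
    have h : (e (α s) : ↥X.grp) = θ (e s : ↥X.grp) := by
      simp only [α, MulEquiv.trans_apply]
      show ((e (e.symm _)) : ↥X.grp) = _
      rw [MulEquiv.apply_symm_apply]
      rfl
    exact h
  have hαn : ∀ n : ℕ, ∀ s, ι ((α ^ n) s) = (θ ^ n) (ι s) := by
    intro n
    induction n with
    | zero => intro s; rfl
    | succ n ih => intro s; rw [pow_succ, pow_succ, MulAut.mul_apply, MulAut.mul_apply, ih, hα]
  set m := Nat.card (Cfsg.Out S)
  obtain ⟨k, hk⟩ : α ^ m ∈ Cfsg.Inn S := by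
    rw [← QuotientGroup.eq_one_iff, QuotientGroup.mk_pow]
    exact pow_card_eq_one'
  set ψ := (MulAut.conj (ι k))⁻¹ * θ ^ m with hψ
  obtain ⟨x, hx⟩ : ψ ∈ L := mul_mem (inv_mem (conj_mem_linAut _)) (pow_mem hθL m)
  have hfix : ∀ s, ψ (ι s) = ι s := fun s => by
    rw [hψ, MulAut.mul_apply, ← hαn, ← hk, MulAut.conj_apply, MulAut.conj_inv_apply,
      map_mul, map_mul, map_inv]
    group
  have hxc := hirr x fun s => by
    have h := hx (ι s)
    rw [hfix] at h
    exact (eq_mul_inv_iff_mul_eq.1 h).symm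
  have hone : ψ = 1 := MulEquiv.ext fun y => Subtype.ext (by
    rw [hx, ← Subgroup.mem_center_iff.1 hxc, mul_inv_cancel_right]
    rfl)
  refine hne ?_
  let q' := QuotientGroup.mk' (Cfsg.Inn ↥X.grp)
  have hin : ∀ y : ↥X.grp, q' (MulAut.conj y) = 1 := fun y =>
    (QuotientGroup.eq_one_iff _).2 ⟨y, rfl⟩
  have h1 : q' θ = (diagOut hF d)⁻¹ * diagOut hF c := by
    rw [hθ, map_mul, map_mul, map_inv, hin, mul_one]
    rfl
  have h2 : q' ψ = q' θ ^ m := by
    rw [hψ, map_mul, map_inv, hin, inv_one, one_mul, map_pow]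
  rw [← h1, ← h2, hone, map_one]

end Abstract

/-- Three classes of an absolutely irreducible subgroup with small outer automorphism group. -/
theorem three_classes {K : Type*} [Field K] [Fintype K] (hK : Fintype.card K = 4) {S : Type*}
    [Group S] [Finite S] (hout : Nat.card (Cfsg.Out S) = 2) (ι : S →* twistedE6 K 2)
    (hinj : Function.Injective ι)
    (hirr : ∀ x : Matrix chevE6.Idx chevE6.Idx K,
      (∀ s, Commute x ((ι s : GL chevE6.Idx K) : Matrix chevE6.Idx chevE6.Idx K)) →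
        ∃ a : K, x = a • (1 : Matrix chevE6.Idx chevE6.Idx K)) :
    ∃ H : Fin 3 → Subgroup (twistedE6 K 2),
      (∀ i, Nonempty ((H i) ≃* S)) ∧
      (∀ i j, i ≠ j → ∀ g : (twistedE6 K 2),
        (H i).map (MulAut.conj g).toMonoidHom ≠ H j) := by
  have hK2 : Fintype.card K = 2 ^ 2 := by rw [hK]; rfl
  have hq : IsPrimePow 2 := Nat.prime_two.isPrimePow
  have hcen : ∀ x : GL chevE6.Idx K,
      (∀ s, x * (ι s : GL chevE6.Idx K) = (ι s : GL chevE6.Idx K) * x) →
        x ∈ Subgroup.center (GL chevE6.Idx K) := fun x hx => by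
    obtain ⟨a, ha⟩ := hirr (x : Matrix chevE6.Idx chevE6.Idx K) fun s => congrArg Units.val (hx s)
    refine Subgroup.mem_center_iff.2 fun y => Units.ext ?_
    simp [Units.val_mul, ha]
  clear hirr
  obtain ⟨T, X, hf⟩ := H52.exists_twistE6 hq hK2
  have hF := e6_twFacts X hf hK2
  revert ι
  rw [← H52.twistE6_grp X hf hK2]
  intro ι hinj hcen
  have hcard := H52.e6_card_torus X hf hK2
  have hle := card_diagOut hF
  have hprod : ∏ J : Fin chevF4.rank, (2 ^ (H52.e6Fold.orb J).length - 1) = 9 := by decide +kernel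
  rw [hprod] at hle
  have hH : Nat.card ↥X.torusT = 3 := by norm_num at hcard; omega
  rw [hH] at hle
  have : Fintype (Cfsg.Out ↥X.grp) := Fintype.ofFinite _
  have h6 : Nat.card (Cfsg.Out ↥X.grp) = 6 := by
    have : Fact (Nat.Prime 2) := ⟨Nat.prime_two⟩
    have h := e6_card_out hq hK2 (p := 2) (n := 2) hK2
    rw [← H52.twistE6_grp X hf hK2] at h
    exact h
  have h3 : 3 ∣ Nat.card ↥(diagOut hF).range := by
    have h1 := Subgroup.card_subgroup_dvd_card (diagOut hF).range
    rw [h6] at h1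
    have h2 := Nat.le_of_dvd (by norm_num) h1
    generalize Nat.card ↥(diagOut hF).range = n at *
    interval_cases n <;> omega
  have : Fact (Nat.Prime 3) := ⟨Nat.prime_three⟩
  obtain ⟨⟨_, c, rfl⟩, hc⟩ := exists_prime_orderOf_dvd_card' 3 h3
  rw [← Subgroup.orderOf_coe] at hc
  refine ⟨fun i => ι.range.map (twAut hF (c ^ i.val) 1).toMonoidHom, fun i => ?_,
    fun i j hij g => no_conj hF ι hinj hcen _ _ ?_ g⟩
  · exact ⟨((ι.range.equivMapOfInjective _ (twAut hF (c ^ i.val) 1).injective).symm).trans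
      (MonoidHom.ofInjective hinj).symm⟩
  · rw [hout, map_pow, map_pow]
    intro h
    have hi := i.isLt
    have hj := j.isLt
    have hne : i.val ≠ j.val := fun e => hij (Fin.ext e)
    have key : ∀ a b : ℕ, ((diagOut hF c) ^ b)⁻¹ * (diagOut hF c) ^ a =
        (diagOut hF c) ^ (((a : ℤ) - b)) := fun a b => by
      rw [← zpow_natCast, ← zpow_natCast, ← zpow_neg, ← zpow_add]
      congr 1
      ring
    rw [key, ← zpow_natCast, ← zpow_mul, ← orderOf_dvd_iff_zpow_eq_one, hc] at h
    obtain ⟨z, hz⟩ := h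
    push_cast at hz
    omega

end H60.TE6
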