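import Cfsg.Agent.H60.TE6.Irr
import Cfsg.Agent.H60.TE6.Classes
import Cfsg.Agent.H96.Fi22Out
import Cfsg.Agent.H96.Fi22O7
import Cfsg.Agent.H44.OutPOdd
import Cfsg.Agent.H94.O7.Setup
import Cfsg.Agent.H43.D4.OutD4

/-!
²E₆(2) has three classes of subgroups Fi₂₂ and three classes of subgroups Ω₇(3).
-/

set_option autoImplicit false

open Cfsg.Lie

namespace H60.TE6

theorem exists_omega4 {K : Type*} [Field K] [Fintype K] (hK : Fintype.card K = 4) :
    ∃ _ : CharP K 2, ∃ w : K, w * w = w + 1 := by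
  have hc : CharP K 2 := by
    have : Fact (Nat.Prime 2) := ⟨Nat.prime_two⟩
    exact charP_of_card_eq_prime_pow (f := 2) (by rw [hK]; rfl)
  refine ⟨hc, ?_⟩
  classical
  obtain ⟨w, -, hw⟩ := Finset.exists_mem_notMem_of_card_lt_card
    (s := ({0, 1} : Finset K)) (t := Finset.univ) (by
      rw [Finset.card_univ, hK]
      exact lt_of_le_of_lt Finset.card_le_two (by norm_num))
  simp only [Finset.mem_insert, Finset.mem_singleton, not_or] at hw
  obtain ⟨h0, h1⟩ := hw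
  refine ⟨w, ?_⟩
  have h3 : w ^ 3 = 1 := by
    have := FiniteField.pow_card_sub_one_eq_one w h0
    rwa [hK] at this
  have h4 : (w - 1) * (w * w + w + 1) = 0 := by linear_combination h3
  have h5 := (mul_eq_zero.1 h4).resolve_left (sub_ne_zero.2 h1)
  have h2 : (2 : K) = 0 := CharTwo.two_eq_zero
  linear_combination h5 - (w + 1) * h2

theorem fi22_classes {K : Type*} [Field K] [Fintype K] (hK : Fintype.card K = 4) :
    ∃ H : Fin 3 → Subgroup (twistedE6 K 2),
      (∀ i, Cfsg.Spor.IsoFi22 (H i)) ∧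
      (∀ i j, i ≠ j → ∀ g : (twistedE6 K 2), (H i).map (MulAut.conj g).toMonoidHom ≠ H j) := by
  obtain ⟨_, w, hw⟩ := exists_omega4 hK
  haveI : Finite Cfsg.Spor.Fi22 := H93.Fi22Order.card_le.1
  refine three_classes hK H96.Fi22Out.card_out (emb hw) (emb_injective hw) fun x hx =>
    scalar_of_commute hw fun g _ hg => ?_
  have h := hx (H93.Fi22Order.gen g)
  rwa [emb_gen hw hg] at h

/-- `Ω₇(3)` is the subgroup of Fi₂₂ generated by eight transpositions. -/
theorem exists_hs_equiv : Nonempty (H96.Fi22O7.HS ≃*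
    Cfsg.Omega (ZMod 3) (Cfsg.quadFormOdd 3 (ZMod 3))) := by
  obtain ⟨e⟩ := H96.Fi22O7.main
  exact ⟨e.trans ((QuotientGroup.quotientMulEquivOfEq
    (Subgroup.eq_bot_of_card_eq _ H94.O7.center_card)).trans QuotientGroup.quotientBot)⟩

theorem card_out_o7 : Nat.card (Cfsg.Out ↥H96.Fi22O7.HS) = 2 := by
  haveI : Fact (Nat.Prime 3) := ⟨Nat.prime_three⟩
  obtain ⟨e⟩ := H96.Fi22O7.main
  obtain ⟨f⟩ := H43.D4.out_congr e
  obtain ⟨g⟩ := H44.out_qOdd (F := ZMod 3) (m := 3) le_rfl (p := 3) (f := 1)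
    (by rw [ZMod.card, pow_one]) (by norm_num) _ (H43.coe_qOdd 3 (ZMod 3))
  rw [Nat.card_congr (f.trans g).toEquiv]
  simp [Nat.card_prod, Nat.card_zmod]

theorem o7_classes {K : Type*} [Field K] [Fintype K] (hK : Fintype.card K = 4) :
    ∃ H : Fin 3 → Subgroup (twistedE6 K 2),
      (∀ i, Nonempty ((H i) ≃* Cfsg.Omega (ZMod 3) (Cfsg.quadFormOdd 3 (ZMod 3)))) ∧
      (∀ i j, i ≠ j → ∀ g : (twistedE6 K 2), (H i).map (MulAut.conj g).toMonoidHom ≠ H j) := by
  obtain ⟨_, w, hw⟩ := exists_omega4 hK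
  haveI : Finite Cfsg.Spor.Fi22 := H93.Fi22Order.card_le.1
  obtain ⟨H, hH, hne⟩ := three_classes hK card_out_o7 ((emb hw).comp H96.Fi22O7.HS.subtype)
    ((emb_injective hw).comp H96.Fi22O7.HS.subtype_injective) fun x hx =>
      scalar_of_commute hw fun g h1 hg => by
        have h := hx ⟨_, H96.Fi22O7.gen_mem ⟨g - 1, by omega⟩⟩
        rw [MonoidHom.comp_apply] at h
        change Commute x ((emb hw (H93.Fi22Order.gen (g - 1 + 1)) : GL chevE6.Idx K) :
          Matrix chevE6.Idx chevE6.Idx K) at h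
        rwa [Nat.sub_add_cancel h1, emb_gen hw hg] at h
  obtain ⟨e⟩ := exists_hs_equiv
  exact ⟨H, fun i => (hH i).map fun f => f.trans e, hne⟩

end H60.TE6
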