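import Cfsg.Agent.H60.TE6.Rep

/-!
Only scalars commute with eight of the generators of the copy of Fi₂₂ in ²E₆(2).
-/

set_option autoImplicit false
set_option maxRecDepth 100000

namespace H60.TE6

open Cfsg.Lie Cfsg.Spor H52 Matrix

attribute [local irreducible] step idY delta scale

variable {K : Type*} [Field K] [CharP K 2] {w : K} (hw : w * w = w + 1)

/-- The column of rank one. -/
def ucol (w : K) : chevE6.Idx → K := fun x => val w (uvec.getD (code chevE6 x) 0)

/-- The row of rank one. -/
def vrow (w : K) : chevE6.Idx → K := fun x => val w (vvec.getD (code chevE6 x) 0)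

/-- A spanning vector. -/
def svec (w : K) (k : ℕ) : chevE6.Idx → K := fun x => rv w (vrows.getD k 0) (code chevE6 x)

include hw

theorem evD_toK {g : ℕ} (hg : g < 9) (Y : ℕ) :
    toK w (evD g Y) = ((gl w g : Matrix chevE6.Idx chevE6.Idx K) - 1) * toK w Y := by
  have h : toK w (evD g Y) = toK w (evL (glets g) Y) + toK w Y := by
    ext x y
    simp [toK, evD, rowOf_xor, rv_xor]
  rw [h, gen_toK hw hg, Matrix.sub_mul, one_mul, sub_eq_add_neg]
  congr 1
  ext x y
  exact (CharTwo.neg_eq _).symm

theorem commute_rankE {x : Matrix chevE6.Idx chevE6.Idx K}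
    (hx : ∀ g, 1 ≤ g → g < 9 → Commute x (gl w g : Matrix chevE6.Idx chevE6.Idx K)) :
    Commute x (toK w rankE) := by
  have hc : ∀ g, 1 ≤ g → g < 9 →
      Commute x ((gl w g : Matrix chevE6.Idx chevE6.Idx K) - 1) :=
    fun g h1 h2 => (hx g h1 h2).sub_right (Commute.one_right x)
  rw [rankE, evD_toK hw (by norm_num), evD_toK hw (by norm_num), evD_toK hw (by norm_num),
    evD_toK hw (by norm_num), toK_idY, mul_one]
  exact (hc 2 (by norm_num) (by norm_num)).mul_right ((hc 7 (by norm_num) (by norm_num)).mul_right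
    ((hc 4 (by norm_num) (by norm_num)).mul_right (hc 6 (by norm_num) (by norm_num))))

theorem toK_rankE (x y : chevE6.Idx) : toK w rankE x y = ucol w x * vrow w y := by
  have h := Nat.eq_of_beq_eq_true (List.all_eq_true.1 (List.all_eq_true.1 uv_ok _
    (List.mem_range.2 (code_lt x))) _ (List.mem_range.2 (code_lt y)))
  have h1 := (uv_lt.1 _ (code_lt x)).1
  have h2 := (uv_lt.1 _ (code_lt y)).2
  rw [ucol, vrow, ← (val_mulc_table hw _ h1 _ h2).2, ← h, ent, val_rent]
  rfl

theorem svec_zero : svec w 0 = ucol w := by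
  funext x
  have h := Nat.eq_of_beq_eq_true (List.all_eq_true.1 (List.all_eq_true.1 cols_rows 0
    (List.mem_range.2 (by norm_num))) _ (List.mem_range.2 (code_lt x)))
  rw [svec, ucol, ← start_ok _ (code_lt x), h, val_rent]

omit hw [CharP K 2] in
theorem exists_code {i : ℕ} (hi : i < 78) : ∃ x : chevE6.Idx, code chevE6 x = i := by
  by_cases h : i < 72
  · exact ⟨.inr ⟨i, h⟩, rfl⟩
  · exact ⟨.inl ⟨i - 72, show i - 72 < 6 by omega⟩, show 72 + (i - 72) = i by omega⟩

theorem svec_step {k : ℕ} (hk : k < 78) (h0 : k ≠ 0) :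
    svec w k = (gl w (tree.getD k (0, 0)).2 : Matrix chevE6.Idx chevE6.Idx K) *ᵥ
      svec w (tree.getD k (0, 0)).1 := by
  obtain ⟨hp, hg⟩ := tree_lt k hk
  replace hp := hp.resolve_left h0
  replace hg := hg.resolve_left h0
  have h := List.all_eq_true.1 tree_ok k (List.mem_range.2 hk)
  rw [Bool.or_eq_true, beq_iff_eq] at h
  have h' := Nat.eq_of_beq_eq_true (h.resolve_left h0)
  obtain ⟨y, hy⟩ := exists_code (show 0 < 78 by norm_num)
  have hcol : ∀ q < 78, ∀ z : chevE6.Idx, toK w (vcols.getD q 0) z y = svec w q z := by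
    intro q hq z
    have h := Nat.eq_of_beq_eq_true (List.all_eq_true.1 (List.all_eq_true.1 cols_rows q
      (List.mem_range.2 hq)) _ (List.mem_range.2 (code_lt z)))
    show rv w (rowOf _ _) (code chevE6 y) = _
    rw [svec, hy, ← val_rent, ← val_rent]
    exact congrArg (val w) h
  funext x
  rw [← hcol k hk, ← h', gen_toK hw hg.2, Matrix.mul_apply]
  simp only [Matrix.mulVec, dotProduct]
  exact Finset.sum_congr rfl fun z _ => by rw [hcol _ (by omega) z]

theorem svec_eigen {x : Matrix chevE6.Idx chevE6.Idx K}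
    (hx : ∀ g, 1 ≤ g → g < 9 → Commute x (gl w g : Matrix chevE6.Idx chevE6.Idx K))
    {c : K} (h0 : x *ᵥ ucol w = c • ucol w) :
    ∀ k < 78, x *ᵥ svec w k = c • svec w k := by
  intro k
  induction k using Nat.strong_induction_on with
  | _ k ih =>
    intro hk
    by_cases hk0 : k = 0
    · subst hk0; rw [svec_zero hw, h0]
    · obtain ⟨hp, hg⟩ := tree_lt k hk
      replace hp := hp.resolve_left hk0
      replace hg := hg.resolve_left hk0
      rw [svec_step hw hk hk0, Matrix.mulVec_mulVec, (hx _ hg.1 hg.2).eq, ← Matrix.mulVec_mulVec,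
        ih _ hp (by omega), Matrix.mulVec_smul]

theorem single_eq (p : chevE6.Idx) : (Pi.single p 1 : chevE6.Idx → K) =
    ((List.range 78).map fun k =>
      val w ((coords.getD (code chevE6 p) []).getD k 0) • svec w k).sum := by
  have hp : code chevE6 p < 78 := code_lt p
  have h := Nat.eq_of_beq_eq_true (List.all_eq_true.1 coords_ok _ (List.mem_range.2 hp))
  funext x
  have hx : code chevE6 x < 78 := code_lt x
  have key : ∀ l : List ℕ, (∀ k ∈ l, k < 78) →
      rv w ((l.map fun k => scale ((coords.getD (code chevE6 p) []).getD k 0)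
        (vrows.getD k 0)).foldr (· ^^^ ·) 0) (code chevE6 x) =
      (l.map fun k => val w ((coords.getD (code chevE6 p) []).getD k 0) • svec w k).sum x := by
    intro l
    induction l with
    | nil => intro _; simp [rv_zero]
    | cons k l ih =>
      intro hl
      rw [List.map_cons, List.foldr_cons, rv_xor, ih fun q hq => hl q (List.mem_cons_of_mem _ hq),
        rv_scale hw (coords_lt _ hp k (hl k List.mem_cons_self))
          (rows_lt k (hl k List.mem_cons_self)) hx, List.map_cons, List.sum_cons, Pi.add_apply]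
      rfl
  rw [← key _ (fun k hk => List.mem_range.1 hk), h, Nat.one_shiftLeft, rv, Nat.testBit_two_pow,
    Nat.testBit_two_pow, Pi.single_apply]
  simp only [show ¬ code chevE6 p = 78 + code chevE6 x by omega, decide_false]
  by_cases hpx : x = p
  · subst hpx; simp [b2k]
  · simp [b2k, hpx, show code chevE6 p ≠ code chevE6 x from fun e => hpx (code_injective e).symm]

/-- The commutant is trivial. -/
theorem scalar_of_commute {x : Matrix chevE6.Idx chevE6.Idx K}
    (hx : ∀ g, 1 ≤ g → g < 9 → Commute x (gl w g : Matrix chevE6.Idx chevE6.Idx K)) :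
    ∃ c : K, x = c • (1 : Matrix chevE6.Idx chevE6.Idx K) := by
  obtain ⟨y, hy⟩ := exists_code (show 74 < 78 by norm_num)
  have hvy : vrow w y = 1 := by rw [vrow, hy, uv_lt.2, (val_vals w).2.1]
  refine ⟨∑ z, vrow w z * x z y, ?_⟩
  have h0 : x *ᵥ ucol w = (∑ z, vrow w z * x z y) • ucol w := by
    funext a
    have h := congrFun (congrFun (commute_rankE hw hx).eq a) y
    rw [Matrix.mul_apply, Matrix.mul_apply] at h
    simp only [toK_rankE hw, hvy, mul_one] at h
    show ∑ z, x a z * ucol w z = (∑ z, vrow w z * x z y) • ucol w a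
    rw [h, smul_eq_mul, Finset.sum_mul]
    exact Finset.sum_congr rfl fun z _ => by ring
  set c := ∑ z, vrow w z * x z y
  have he := svec_eigen hw hx h0
  ext a p
  have hl : ∀ l : List ℕ, (∀ k ∈ l, k < 78) → ∀ f : ℕ → K,
      x *ᵥ (l.map fun k => f k • svec w k).sum = c • (l.map fun k => f k • svec w k).sum := by
    intro l
    induction l with
    | nil => intro _ f; simp
    | cons k l ih =>
      intro hl f
      rw [List.map_cons, List.sum_cons, Matrix.mulVec_add, Matrix.mulVec_smul,
        he k (hl k List.mem_cons_self), ih (fun q hq => hl q (List.mem_cons_of_mem _ hq)), smul_add,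
        smul_comm]
  have h := congrFun (hl (List.range 78) (fun k hk => List.mem_range.1 hk)
    fun k => val w ((coords.getD (code chevE6 p) []).getD k 0)) a
  rw [← single_eq hw p, Matrix.mulVec_single_one, Matrix.col_apply] at h
  rw [h, Pi.smul_apply, Matrix.smul_apply, Pi.single_apply, Matrix.one_apply]

end H60.TE6
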