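import Cfsg.Agent.H60.TE6.Check
import Cfsg.Agent.H93.Fi22Order
import Cfsg.Prelude.Def_Spor_Fi22
import Cfsg.Prelude.Def_LieTwisted

/-!
An embedding of the Fischer group Fi₂₂ in ²E₆(2).
-/

set_option autoImplicit false
set_option maxRecDepth 100000

namespace H60.TE6

open Cfsg.Lie Cfsg.Spor H52

attribute [local irreducible] step idY delta scale

variable {K : Type*} [Field K] [CharP K 2] {w : K} (hw : w * w = w + 1)

include hw in
theorem val_eq_zero {c : ℕ} (hc : c < 4) (h : val w c = 0) : c = 0 := by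
  obtain ⟨v0, v1, v2, v3⟩ := val_vals w
  interval_cases c
  · rfl
  · exact absurd (v1.symm.trans h) one_ne_zero
  · rw [v2] at h; rw [h] at hw; simp at hw
  · rw [v3] at h
    have h1 : w = 1 := by
      rw [← CharTwo.neg_eq (1 : K)]
      exact eq_neg_of_add_eq_zero_right h
    rw [h1, CharTwo.add_self_eq_zero, mul_one] at hw
    exact absurd hw one_ne_zero

/-- The word in root elements of a coded word. -/
def kw (w : K) (l : List (ℕ × ℕ)) : List (ℕ × K) := l.map fun p => (rootAt p.1, val w p.2)

/-- The element of a coded word. -/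
noncomputable def el (w : K) (l : List (ℕ × ℕ)) : GL chevE6.Idx K := wordRt chevE6 (kw w l)

/-- The element of a generator. -/
noncomputable def gl (w : K) (g : ℕ) : GL chevE6.Idx K := el w (glets g)

omit [CharP K 2] in
theorem el_append (a b : List (ℕ × ℕ)) : el w (a ++ b) = el w a * el w b := by
  simp [el, kw, wordRt]

include hw

theorem evL_toK : ∀ (l : List (ℕ × ℕ)), (∀ p ∈ l, p.1 < 12 ∧ p.2 < 4) → ∀ Y : ℕ,
    toK w (evL l Y) = (el w l : Matrix chevE6.Idx chevE6.Idx K) * toK w Y := by
  intro l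
  induction l with
  | nil => intro _ Y; simp [evL, el, kw, wordRt]
  | cons p l ih =>
    intro h Y
    obtain ⟨h1, h2⟩ := h p List.mem_cons_self
    show toK w (step (tabAt p.1) p.2 (evL l Y)) = _
    rw [step_toK hw (roots_lt _ h1) _ (tabs_ok _ h1) (heads_ok h1) h2,
      ih (fun q hq => h q (List.mem_cons_of_mem _ hq)), el, el, checkedE6.coe_wordRt,
      checkedE6.coe_wordRt, kw, kw, List.map_cons, ← mul_assoc]
    rfl

theorem gen_toK {g : ℕ} (hg : g < 9) (Y : ℕ) :
    toK w (evL (glets g) Y) = (gl w g : Matrix chevE6.Idx chevE6.Idx K) * toK w Y :=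
  evL_toK hw _ (glets_lt g hg) Y

theorem evG_toK : ∀ (l : List ℕ), (∀ g ∈ l, g < 9) → ∀ Y : ℕ,
    toK w (evG l Y) = ((l.map (gl w)).prod : GL chevE6.Idx K).val * toK w Y := by
  intro l
  induction l with
  | nil => intro _ Y; simp [evG]
  | cons g l ih =>
    intro h Y
    show toK w (evL (glets g) (evG l Y)) = _
    rw [gen_toK hw (h g List.mem_cons_self), ih fun q hq => h q (List.mem_cons_of_mem _ hq),
      List.map_cons, List.prod_cons, Units.val_mul, mul_assoc]

theorem prod_eq_one {l : List ℕ} (hl : ∀ g ∈ l, g < 9) (h : Nat.beq (evG l idY) idY = true) :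
    (l.map (gl w)).prod = 1 := by
  apply Units.ext
  have := evG_toK hw l hl idY
  rwa [Nat.eq_of_beq_eq_true h, toK_idY, mul_one, eq_comm] at this

theorem chain_one {l : List ℕ} (hl : ∀ g ∈ l, g < 9) {n : ℕ} {Ys : List ℕ}
    (h : chainOK l n Ys = true) : ((l.map (gl w)).prod) ^ n = 1 := by
  simp only [chainOK, Bool.and_eq_true, List.all_eq_true, List.mem_range] at h
  obtain ⟨⟨h0, hn⟩, hs⟩ := h
  have key : ∀ k ≤ n, toK w (Ys.getD k 0) = (((l.map (gl w)).prod) ^ k).val := by
    intro k
    induction k with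
    | zero => intro _; rw [Nat.eq_of_beq_eq_true h0, toK_idY, pow_zero, Units.val_one]
    | succ k ih =>
      intro hk
      rw [← Nat.eq_of_beq_eq_true (hs k hk), evG_toK hw l hl, ih (by omega), pow_succ',
        Units.val_mul]
  apply Units.ext
  rw [← key n le_rfl, Nat.eq_of_beq_eq_true hn, toK_idY, Units.val_one]

omit hw in
/-- The index of a generator. -/
def ix : Fi22.Gen → ℕ
  | .a => 0
  | .b => 1
  | .c => 2
  | .d => 3
  | .e => 4
  | .f => 5
  | .g => 6
  | .h => 7
  | .i => 8

omit hw in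
theorem ix_lt (x : Fi22.Gen) : ix x < 9 := by cases x <;> decide

omit hw in
theorem lbl_eq (x y : Fi22.Gen) : coxLabel Fi22.edges x y = lbl (ix x) (ix y) := by
  cases x <;> cases y <;> decide

omit hw in
theorem wrep_mem {l : List ℕ} (hl : ∀ g ∈ l, g < 9) : ∀ n, ∀ g ∈ wrep l n, g < 9 := by
  intro n
  induction n with
  | zero => simp [wrep]
  | succ n ih =>
    intro g hg
    rcases List.mem_append.1 hg with h | h
    exacts [hl g h, ih g h]

omit hw in
theorem wrep_prod (l : List ℕ) : ∀ n, ((wrep l n).map (gl w)).prod = (l.map (gl w)).prod ^ n := by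
  intro n
  induction n with
  | zero => simp [wrep]
  | succ n ih =>
    show ((l ++ wrep l n).map (gl w)).prod = _
    rw [List.map_append, List.prod_append, ih, pow_succ']

theorem rels_one : ∀ r ∈ coxRelators Fi22.edges ∪ {r | r ∈ Fi22.extra},
    FreeGroup.lift (fun x => gl w (ix x)) r = 1 := by
  rintro r (⟨x, -, y, -, rfl⟩ | hr)
  · rw [map_pow, map_mul, FreeGroup.lift_apply_of, FreeGroup.lift_apply_of, lbl_eq]
    have h := List.all_eq_true.1 (List.all_eq_true.1 cox_ok _ (List.mem_range.2 (ix_lt x))) _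
      (List.mem_range.2 (ix_lt y))
    have hm : ∀ g ∈ [ix x, ix y], g < 9 := by simp [ix_lt]
    have h1 := prod_eq_one hw (wrep_mem hm _) h
    rw [wrep_prod] at h1
    simpa using h1
  · simp only [Set.mem_ofPred_eq, Fi22.extra, List.mem_cons, List.not_mem_nil, or_false] at hr
    rcases hr with rfl | rfl | rfl
    · simpa [ix, mul_assoc] using chain_one hw (by decide) spider_ok
    · simpa [ix, mul_assoc] using chain_one hw (by decide) e7a_ok
    · simpa [ix, mul_assoc] using chain_one hw (by decide) e7b_ok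

omit hw in
/-- The coded words of the letters are among the generating words. -/
def letterOK (l : List (ℕ × ℕ)) : Bool :=
  match l with
  | [(i, c)] => (c == 1) && [e6p2, e6m2, e6p4, e6m4].elem (rootAt i)
  | [(i, c), (j, d)] => decide (c < 4) && (d == pwc c 2) &&
      [(e6p1, e6p6), (e6m1, e6m6), (e6p3, e6p5), (e6m3, e6m5)].elem (rootAt i, rootAt j)
  | _ => false

omit hw in
theorem letters_ok : ∀ k < 16, letterOK (letters.getD k []) = true := by decide +kernel

omit hw in
theorem gwords_lt : ∀ g < 9, ∀ k ∈ gwords.getD g [], k < 16 := by decide +kernel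

theorem letter_mem {k : ℕ} (hk : k < 16) : el w (letters.getD k []) ∈ twistedE6 K 2 := by
  have h := letters_ok k hk
  generalize letters.getD k [] = l at h
  refine Subgroup.subset_closure ⟨kw w l, ?_, checkedE6.coe_wordRt _⟩
  match l, h with
  | [(i, c)], h =>
    simp only [letterOK, Bool.and_eq_true, beq_iff_eq, List.elem_eq_mem, decide_eq_true_eq] at h
    obtain ⟨rfl, hr⟩ := h
    left
    refine ⟨1, one_pow _, rootAt i, hr, ?_⟩
    simp [kw, (val_vals w).2.1]
  | [(i, c), (j, d)], h =>
    simp only [letterOK, Bool.and_eq_true, beq_iff_eq, List.elem_eq_mem, decide_eq_true_eq] at h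
    obtain ⟨⟨hc, rfl⟩, hr⟩ := h
    right
    refine ⟨val w c, (rootAt i, rootAt j), hr, ?_⟩
    simp [kw, (val_pwc hw hc 2).2]

theorem gl_mem {g : ℕ} (hg : g < 9) : gl w g ∈ twistedE6 K 2 := by
  have hl := gwords_lt g hg
  rw [gl, glets]
  have hm : ∀ k ∈ gwords.getD g [] ++ 0 :: (gwords.getD g []).reverse, k < 16 := by
    simp only [List.mem_append, List.mem_cons, List.mem_reverse]
    rintro k (h | rfl | h)
    exacts [hl k h, by norm_num, hl k h]
  revert hm
  generalize gwords.getD g [] ++ 0 :: (gwords.getD g []).reverse = l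
  intro hm
  induction l with
  | nil => simp [el, kw, wordRt, one_mem]
  | cons k l ih =>
    rw [List.flatMap_cons, el_append]
    exact mul_mem (letter_mem hw (hm k List.mem_cons_self))
      (ih fun q hq => hm q (List.mem_cons_of_mem _ hq))

theorem gl_ne : gl w 0 ≠ 1 := by
  intro h1
  obtain ⟨i, hi, j, hj, hij, hne⟩ := gen_ne
  have h := gen_toK hw (show 0 < 9 by norm_num) idY
  rw [h1, toK_idY, Units.val_one, mul_one] at h
  obtain ⟨x, hx⟩ : ∃ x : chevE6.Idx, code chevE6 x = i := code_surj i hi
  obtain ⟨y, hy⟩ : ∃ x : chevE6.Idx, code chevE6 x = j := code_surj j hj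
  have h2 := congrFun (congrFun h x) y
  rw [Matrix.one_apply_ne (fun e => hij (by rw [← hx, ← hy, e]))] at h2
  have h3 : val w (ent (evG [0] idY) i j) = 0 := by
    rw [ent, val_rent, ← hx, ← hy]
    exact h2
  exact hne (val_eq_zero hw (rent_lt _ _) h3)
where
  code_surj : ∀ i < 78, ∃ x : chevE6.Idx, code chevE6 x = i := by
    intro i hi
    by_cases h : i < 72
    · exact ⟨.inr ⟨i, h⟩, rfl⟩
    · exact ⟨.inl ⟨i - 72, show i - 72 < 6 by omega⟩, show 72 + (i - 72) = i by omega⟩
  rent_lt : ∀ R k : ℕ, rent R k < 4 := by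
    intro R k
    unfold rent
    cases R.testBit k <;> cases R.testBit (78 + k) <;> simp

/-- The homomorphism from Fi₂₂. -/
noncomputable def emb : Cfsg.Spor.Fi22 →* twistedE6 K 2 :=
  (PresentedGroup.toGroup (rels_one hw)).codRestrict (twistedE6 K 2) fun x => by
    obtain ⟨y, rfl⟩ := PresentedGroup.mk_surjective _ x
    induction y using FreeGroup.induction_on with
    | C1 => exact one_mem _
    | of a =>
      show PresentedGroup.toGroup (rels_one hw) (PresentedGroup.of a) ∈ _
      rw [PresentedGroup.toGroup.of]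
      exact gl_mem hw (ix_lt a)
    | inv_of a h => rw [map_inv, map_inv]; exact inv_mem h
    | mul a b ha hb => rw [map_mul, map_mul]; exact mul_mem ha hb

theorem emb_of (x : Fi22.Gen) :
    (emb hw (PresentedGroup.of x) : GL chevE6.Idx K) = gl w (ix x) :=
  PresentedGroup.toGroup.of _

theorem emb_gen {g : ℕ} (hg : g < 9) :
    (emb hw (H93.Fi22Order.gen g) : GL chevE6.Idx K) = gl w g := by
  interval_cases g <;> exact emb_of hw _

theorem emb_injective : Function.Injective (emb hw) := by
  rw [← MonoidHom.ker_eq_bot_iff]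
  haveI : IsSimpleGroup Cfsg.Spor.Fi22 := H93.Fi22Order.isFi22.1
  refine ((MonoidHom.normal_ker (emb hw)).eq_bot_or_eq_top).resolve_right fun h => ?_
  have ha : PresentedGroup.of Fi22.Gen.a ∈ (emb hw).ker := by rw [h]; exact Subgroup.mem_top _
  rw [MonoidHom.mem_ker] at ha
  exact gl_ne hw ((emb_of hw .a).symm.trans (congrArg Subtype.val ha))

end H60.TE6
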